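import Groth.Agent.LinType.Basic
import Groth.Agent.CAlgGlobalDim.RegSeq
import Mathlib

/-! A local homomorphism to a regular local ring with injective cotangent map is injective. -/

set_option linter.style.haveILetI false
set_option backward.isDefEq.respectTransparency false
set_option backward.isDefEq.respectTransparency.types false

universe u

open IsLocalRing MvPolynomial

namespace Groth.Agent.CotDom

variable {A B : Type u} [CommRing A] [CommRing B]

/-- Elements of a power of a finitely generated ideal are values of forms. -/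
theorem exists_form {r : ℕ} (a : Fin r → A) (n : ℕ) (x : A) (hx : x ∈ Ideal.span (Set.range a) ^ n) :
    ∃ P : MvPolynomial (Fin r) A, P.IsHomogeneous n ∧ eval a P = x := by
  have hpre : LinType.pre a r = Ideal.span (Set.range a) := by
    rw [LinType.pre]
    congr 1
    ext y
    simp only [Set.mem_image, Set.mem_setOf_eq, Set.mem_range]
    exact ⟨fun ⟨i, _, e⟩ => ⟨i, e⟩, fun ⟨i, e⟩ => ⟨i, i.2, e⟩⟩
  have h : Submodule.map (aeval a : MvPolynomial (Fin r) A →ₐ[A] A).toLinearMap (homogeneousSubmodule (Fin r) A n) =
      Ideal.span (Set.range a) ^ n • (⊤ : Submodule A A) := by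
    rw [show homogeneousSubmodule (Fin r) A n = LinType.lin r ^ n from LinType.homogeneous_eq n,
      LinType.map_lin_pow, hpre, smul_eq_mul, Ideal.mul_top]
  obtain ⟨P, hP, hPx⟩ := h.ge (show x ∈ Ideal.span (Set.range a) ^ n • (⊤ : Submodule A A) by
    rw [smul_eq_mul, Ideal.mul_top]; exact hx)
  exact ⟨P, hP, hPx⟩

variable [IsLocalRing A] [IsLocalRing B]

/-- Minimal generators of the maximal ideal. -/
theorem exists_minimal [IsNoetherianRing A] :
    ∃ (r : ℕ) (a : Fin r → A), Ideal.span (Set.range a) = maximalIdeal A ∧
      ∀ c : Fin r → A, (∑ i, c i * a i) ∈ maximalIdeal A ^ 2 → ∀ i, c i ∈ maximalIdeal A := by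
  classical
  let b := Module.finBasis (ResidueField A) (CotangentSpace A)
  choose a ha using fun i => (maximalIdeal A).toCotangent_surjective (b i)
  refine ⟨_, fun i => (a i : A), ?_, fun c hc i => ?_⟩
  · have h : Submodule.span A (Set.range a) = ⊤ := by
      rw [← IsLocalRing.CotangentSpace.span_image_eq_top_iff, ← Set.range_comp,
        show ((maximalIdeal A).toCotangent ∘ a) = b from funext ha, b.span_eq]
    have h2 := congrArg (Submodule.map (maximalIdeal A).subtype) h
    rw [Submodule.map_span, Submodule.map_subtype_top, ← Set.range_comp] at h2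
    exact h2
  · have h0 : ∑ j, residue A (c j) • b j = 0 := by
      have e : (maximalIdeal A).toCotangent (∑ j, c j • a j) = 0 := by
        rw [Ideal.toCotangent_eq_zero]
        simpa using hc
      rw [map_sum] at e
      refine Eq.trans (Finset.sum_congr rfl fun j _ => ?_) e
      rw [map_smul, ha]
      exact (algebraMap_smul (ResidueField A) (c j) (b j))
    exact (residue_eq_zero_iff _).1 ((Fintype.linearIndependent_iff.1 b.linearIndependent) _ h0 i)

/-- **The lemma**: cotangent injectivity (with surjection on residue fields) forces injectivity. -/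
theorem injective_of_cotangent [IsNoetherianRing A] [IsRegularLocalRing B] (φ : A →+* B) [IsLocalHom φ]
    (hres : ∀ b : B, ∃ a : A, b - φ a ∈ maximalIdeal B)
    (hcot : ∀ a ∈ maximalIdeal A, φ a ∈ maximalIdeal B ^ 2 → a ∈ maximalIdeal A ^ 2) :
    Function.Injective φ := by
  classical
  obtain ⟨r, a, hspan, hmin⟩ := exists_minimal (A := A)
  have hma : ∀ x ∈ maximalIdeal A, φ x ∈ maximalIdeal B := fun x hx => map_nonunit φ x hx
  have ham : ∀ i, a i ∈ maximalIdeal A := fun i => hspan ▸ Ideal.subset_span ⟨i, rfl⟩
  -- the images are independent in the cotangent space of `B`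
  let v : Fin r → CotangentSpace B := fun i => (maximalIdeal B).toCotangent ⟨φ (a i), hma _ (ham i)⟩
  have hv : LinearIndependent (ResidueField B) v := by
    rw [Fintype.linearIndependent_iff]
    intro g hg i
    choose b hb using fun j => residue_surjective (g j)
    choose c hc using fun j => hres (b j)
    have hgc : ∀ j, residue B (φ (c j)) = g j := fun j => by
      rw [← hb j, eq_comm, ← sub_eq_zero, ← map_sub, residue_eq_zero_iff]
      exact hc j
    have e : (maximalIdeal B).toCotangent (∑ j, φ (c j) • (⟨φ (a j), hma _ (ham j)⟩ : maximalIdeal B)) = 0 := by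
      rw [map_sum]
      refine Eq.trans (Finset.sum_congr rfl fun j _ => ?_) hg
      rw [map_smul, ← hgc j]
      exact (algebraMap_smul (ResidueField B) (φ (c j)) (v j)).symm
    rw [Ideal.toCotangent_eq_zero] at e
    have e2 : φ (∑ j, c j * a j) ∈ maximalIdeal B ^ 2 := by simpa [map_sum] using e
    have hcm := hmin c (hcot _ (Ideal.sum_mem _ fun j _ => Ideal.mul_mem_left _ _ (ham j)) e2) i
    rw [← hgc i, residue_eq_zero_iff]
    exact hma _ hcm
  -- extend to a regular system of parameters
  let bB := Module.Basis.sumExtend hv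
  haveI : Finite _ := Module.Finite.finite_basis bB
  let ι' := Fin r ⊕ Module.Basis.sumExtendIndex hv
  haveI : Fintype ι' := Fintype.ofFinite _
  let N := Fintype.card ι'
  let eqv : ι' ≃ Fin N := Fintype.equivFin ι'
  choose y₀ hy₀ using fun j => (maximalIdeal B).toCotangent_surjective (bB j)
  let y : ι' → maximalIdeal B := Sum.elim (fun i => ⟨φ (a i), hma _ (ham i)⟩) (fun j => y₀ (Sum.inr j))
  have hy : ∀ j, (maximalIdeal B).toCotangent (y j) = bB j := by
    rintro (i | j)
    · simp [bB, Module.Basis.sumExtend, Module.Basis.coe_extend, y, v]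
      rw [Equiv.Set.sumDiffSubset]
      rfl
    · exact hy₀ _
  let x : Fin N → B := fun j => (y (eqv.symm j) : B)
  have hx : Ideal.span (Set.range x) = maximalIdeal B := by
    have h : Submodule.span B (Set.range y) = ⊤ := by
      rw [← IsLocalRing.CotangentSpace.span_image_eq_top_iff, ← Set.range_comp,
        show ((maximalIdeal B).toCotangent ∘ y) = bB from funext hy, bB.span_eq]
    have h2 := congrArg (Submodule.map (maximalIdeal B).subtype) h
    rw [Submodule.map_span, Submodule.map_subtype_top, ← Set.range_comp] at h2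
    have hr : Set.range x = Set.range ((maximalIdeal B).subtype ∘ y) :=
      eqv.symm.surjective.range_comp ((maximalIdeal B).subtype ∘ y)
    rw [hr]
    exact h2
  have hN : N ≤ (maximalIdeal B).spanFinrank := by
    rw [IsLocalRing.spanFinrank_maximalIdeal_eq_finrank_cotangentSpace, Module.finrank_eq_card_basis bB]
  have hwr : RingTheory.Sequence.IsWeaklyRegular B (List.ofFn x) :=
    CAlgGlobalDim.isWeaklyRegular_of_generators N B _ (List.length_ofFn ..)
      ((CAlgGlobalDim.ofList_ofFn x).trans hx) hN
  -- the forms
  let em : Fin r → Fin N := fun i => eqv (Sum.inl i)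
  have hem : Function.Injective em := eqv.injective.comp Sum.inl_injective
  have hxe : ∀ i, x (em i) = φ (a i) := fun i => by simp [x, em, y]
  have step : ∀ n, ∀ z, z ∈ maximalIdeal A ^ n → φ z = 0 → z ∈ maximalIdeal A ^ (n + 1) := by
    intro n z hz hφz
    obtain ⟨P, hP, rfl⟩ := exists_form a n z (by rw [hspan]; exact hz)
    let Q : MvPolynomial (Fin N) B := rename em (P.map φ)
    have hQ : Q.IsHomogeneous n := (hP.map φ).rename_isHomogeneous
    have hQe : eval x Q = φ (eval a P) := by
      rw [eval_rename, eval_map, show x ∘ em = φ ∘ a from funext hxe, eval₂_comp]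
    have hQ0 : eval x Q ∈ Ideal.span (Set.range x) ^ (n + 1) := by rw [hQe, hφz]; exact zero_mem _
    have hc : ∀ d : Fin r →₀ ℕ, P.coeff d ∈ maximalIdeal A := by
      intro d
      have h1 := LinType.quasiRegular x hwr hQ hQ0 (d.mapDomain em)
      rw [hx, coeff_rename_mapDomain em hem, coeff_map] at h1
      intro hu
      exact h1 (hu.map φ)
    rw [eval_eq]
    refine Ideal.sum_mem _ fun d hd => ?_
    rw [pow_succ']
    refine Ideal.mul_mem_mul (hc d) ?_
    have hdeg : ∑ i ∈ d.support, d i = n := by
      have h1 := hP (mem_support_iff.mp hd)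
      rw [show (1 : Fin r → ℕ) = fun _ => 1 from rfl, ← Finsupp.degree_eq_weight_one] at h1
      exact h1
    rw [← hdeg, ← Finset.prod_pow_eq_pow_sum]
    exact Ideal.prod_mem_prod fun i _ => Ideal.pow_mem_pow (ham i) _
  rw [injective_iff_map_eq_zero]
  intro z hz
  have hall : ∀ n, z ∈ maximalIdeal A ^ n := fun n => by
    induction n with
    | zero => simp
    | succ n ih => exact step n z ih hz
  have := Ideal.iInf_pow_eq_bot_of_isLocalRing (maximalIdeal A) (maximalIdeal.isMaximal A).ne_top
  exact this.le (Ideal.mem_iInf.2 hall)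

end Groth.Agent.CotDom
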